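import Groth.Prelude.Def_ProEtS
import Mathlib.CategoryTheory.Sites.CoverLifting
import Mathlib.CategoryTheory.Sites.DenseSubsite.InducedTopology
import Mathlib.CategoryTheory.Sites.Over
import Mathlib.CategoryTheory.Functor.Flat
import Mathlib.CategoryTheory.Adjunction.Triple
import Mathlib.CategoryTheory.Preadditive.Injective.Basic
import Mathlib.Algebra.Category.Grp.AB
import Mathlib.Algebra.Homology.ShortComplex.ExactFunctor

/-!
The small and the big pro-étale sites.
-/

open CategoryTheory Limits AlgebraicGeometry Opposite

universe u w v v' v'' u' u'' u₃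

namespace Groth.Agent.ProEtBig

set_option backward.isDefEq.respectTransparency.types false
set_option linter.style.haveILetI false

section

variable {C : Type u'} [Category.{v'} C] {D : Type u''} [Category.{v''} D]
  {E : Type u₃} [Category.{v} E]

set_option backward.defeqAttrib.useBackward true in
set_option backward.isDefEq.respectTransparency false in
/-- Evaluation of the left Kan extension is a colimit, naturally. -/
noncomputable def lanEvalIso (F : C ⥤ D) [∀ G : C ⥤ E, F.HasPointwiseLeftKanExtension G] (X : D)
    [HasColimitsOfShape (CostructuredArrow F X) E] :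
    F.lan ⋙ (evaluation D E).obj X ≅
      (Functor.whiskeringLeft _ _ E).obj (CostructuredArrow.proj F X) ⋙ colim :=
  NatIso.ofComponents (fun G =>
    IsColimit.coconePointUniqueUpToIso
    (Functor.isPointwiseLeftKanExtensionLeftKanExtensionUnit F G X)
    (colimit.isColimit _)) (fun {G₁ G₂} φ => by
      apply (Functor.isPointwiseLeftKanExtensionLeftKanExtensionUnit F G₁ X).hom_ext
      intro T
      have h₁ := fun (G : C ⥤ E) => IsColimit.comp_coconePointUniqueUpToIso_hom
        (Functor.isPointwiseLeftKanExtensionLeftKanExtensionUnit F G X) (colimit.isColimit _) T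
      have h₂ := congr_app (F.lanUnit.naturality φ) T.left
      dsimp at h₁ h₂ ⊢
      simp only [Category.assoc] at h₁ ⊢
      simp only [Functor.lan, Functor.lanUnit] at h₂ ⊢
      rw [reassoc_of% h₁, NatTrans.naturality_assoc, ← reassoc_of% h₂, h₁,
        ι_colimMap, Functor.whiskerLeft_app]
      rfl)

end

instance isCocontinuous_forget (S : Scheme.{u}) :
    (Scheme.ProEt.forget S).IsCocontinuous (Scheme.ProEt.topology S) (Scheme.proetaleTopology.over S) := by
  let G := Scheme.ProEt.forget S
  let K := Scheme.proetaleTopology.over S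
  haveI : G.IsContinuous (G.restrictedTopology K) K :=
    Functor.isContinuous_of_coverPreserving (compatiblePreservingOfFlat K G)
      (G.coverPreserving_restrictedTopology K)
  have h : Scheme.ProEt.topology S = G.restrictedTopology K :=
    (Scheme.ProEt.topology_eq_inducedTopology (S := S)).trans
      Functor.restrictedTopology_eq_inducedTopology.symm
  rw [h]
  infer_instance

theorem isIso_unit_forget (S : Scheme.{u}) (F : ProEtS.AbP S) :
    IsIso (((Scheme.ProEt.forget S).sheafAdjunctionContinuous AddCommGrpCat.{u + 1}
      (Scheme.ProEt.topology S) (Scheme.proetaleTopology.over S)).unit.app F) := by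
  let G := Scheme.ProEt.forget S
  let J := Scheme.ProEt.topology S
  let K := Scheme.proetaleTopology.over S
  let a := G.sheafAdjunctionCocontinuous AddCommGrpCat.{u + 1} J K
  haveI : ∀ H, IsIso (a.counit.app H) := fun H ↦ by
    haveI : IsIso ((sheafToPresheaf J _).map (a.counit.app H)) := by
      show IsIso (a.counit.app H).hom
      rw [Functor.sheafAdjunctionCocontinuous_counit_app_hom, Functor.ranAdjunction_counit]
      haveI : (Scheme.ProEt.forget S).op.Full := inferInstance
      haveI : (Scheme.ProEt.forget S).op.Faithful := inferInstance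
      have hV : ∀ V, IsIso ((G.op.ranCounit.app H.obj).app V) := fun V ↦
        inferInstanceAs (IsIso (((Scheme.ProEt.forget S).op.ranCounit.app H.obj).app V))
      exact @NatIso.isIso_of_isIso_app _ _ _ _ _ _ (G.op.ranCounit.app H.obj) hV
    exact isIso_of_reflects_iso _ (sheafToPresheaf J _)
  haveI : IsIso a.counit := NatIso.isIso_of_isIso_app _
  let t : Adjunction.Triple (G.sheafPullback AddCommGrpCat.{u + 1} J K)
      (G.sheafPushforwardContinuous AddCommGrpCat.{u + 1} J K)
      (G.sheafPushforwardCocontinuous AddCommGrpCat.{u + 1} J K) :=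
    ⟨G.sheafAdjunctionContinuous _ J K, a⟩
  haveI := t.isIso_unit_iff_isIso_counit.2 inferInstance
  infer_instance

theorem isZero_rightDerived_of_exact {A B : Type*} [Category A] [Category B] [Abelian A] [Abelian B]
    [HasInjectiveResolutions A] (F : A ⥤ B) [F.Additive] [PreservesFiniteLimits F]
    [PreservesFiniteColimits F] (q : ℕ) (hq : 0 < q) (X : A) :
    IsZero ((F.rightDerived q).obj X) := by
  obtain ⟨n, rfl⟩ := Nat.exists_eq_succ_of_ne_zero hq.ne'
  let I : InjectiveResolution X := HasInjectiveResolution.out.some
  refine IsZero.of_iso ?_ (I.isoRightDerivedObj F (n + 1))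
  erw [← HomologicalComplex.exactAt_iff_isZero_homology]
  exact ShortComplex.Exact.map (I.cocomplex_exactAt_succ n) F

theorem restrict_isZero_rightDerived (S : Scheme.{u})
    [((Scheme.ProEt.forget S).sheafPushforwardContinuous AddCommGrpCat.{u + 1} (Scheme.ProEt.topology S)
      (Scheme.proetaleTopology.over S)).Additive]
    [HasInjectiveResolutions (Sheaf (Scheme.proetaleTopology.over S) AddCommGrpCat.{u + 1})]
    (q : ℕ) (hq : 0 < q) (F : Sheaf (Scheme.proetaleTopology.over S) AddCommGrpCat.{u + 1}) :
    IsZero ((((Scheme.ProEt.forget S).sheafPushforwardContinuous AddCommGrpCat.{u + 1}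
      (Scheme.ProEt.topology S) (Scheme.proetaleTopology.over S)).rightDerived q).obj F) := by
  let G := Scheme.ProEt.forget S
  let J := Scheme.ProEt.topology S
  let K := Scheme.proetaleTopology.over S
  haveI := (G.sheafAdjunctionCocontinuous AddCommGrpCat.{u + 1} J K).isLeftAdjoint
  haveI := (G.sheafAdjunctionContinuous AddCommGrpCat.{u + 1} J K).isRightAdjoint
  exact isZero_rightDerived_of_exact _ q hq F

theorem preservesFiniteLimits_lan_forget (T : Scheme.{u}) :
    PreservesFiniteLimits ((Scheme.ProEt.forget T).op.lan :
      (T.ProEtᵒᵖ ⥤ AddCommGrpCat.{u + 1}) ⥤ (Over T)ᵒᵖ ⥤ AddCommGrpCat.{u + 1}) := by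
  haveI : ∀ W : (Over T)ᵒᵖ,
      HasExactColimitsOfShape (CostructuredArrow (Scheme.ProEt.forget T).op W) AddCommGrpCat.{u + 1} := fun W ↦ by
    haveI : IsFiltered (CostructuredArrow (Scheme.ProEt.forget T).op W) :=
      IsFiltered.of_equivalence (structuredArrowOpEquivalence (Scheme.ProEt.forget T) W.unop)
    haveI : IsFiltered (AsSmall.{u + 1} (CostructuredArrow (Scheme.ProEt.forget T).op W)) :=
      IsFiltered.of_equivalence AsSmall.equiv
    haveI : HasExactColimitsOfShape (AsSmall.{u + 1} (CostructuredArrow (Scheme.ProEt.forget T).op W))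
        AddCommGrpCat.{u + 1} := AB5OfSize.ofShape _
    exact HasExactColimitsOfShape.of_domain_equivalence _ AsSmall.equiv.symm
  apply preservesFiniteLimits_of_preservesFiniteLimitsOfSize.{0}
  intro J _ _
  refine preservesLimitsOfShape_of_evaluation _ J fun W ↦ ?_
  haveI : PreservesFiniteLimits
      (colim (J := CostructuredArrow (Scheme.ProEt.forget T).op W) (C := AddCommGrpCat.{u + 1})) :=
    HasExactColimitsOfShape.preservesFiniteLimits
  exact preservesLimitsOfShape_of_natIso (lanEvalIso _ _).symm

theorem injective_restrict_small (T : Scheme.{u})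
    (I : Sheaf (Scheme.proetaleTopology.over T) AddCommGrpCat.{u + 1}) [Injective I] :
    Injective (((Scheme.ProEt.forget T).sheafPushforwardContinuous AddCommGrpCat.{u + 1}
      (Scheme.ProEt.topology T) (Scheme.proetaleTopology.over T)).obj I) := by
  let G := Scheme.ProEt.forget T
  let J := Scheme.ProEt.topology T
  let K := Scheme.proetaleTopology.over T
  haveI := preservesFiniteLimits_lan_forget T
  haveI : PreservesFiniteLimits (G.sheafPullback AddCommGrpCat.{u + 1} J K) := inferInstance
  exact (G.sheafAdjunctionContinuous AddCommGrpCat.{u + 1} J K).map_injective I inferInstance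

section OverMap

variable {T S : Scheme.{u}} (f : T ⟶ S) (W : Over S)

/-- Lifts of an object over `S` to `T`. -/
abbrev Lifts : Type u := {g : W.left ⟶ T // g ≫ f = W.hom}

/-- The lift underlying a costructured arrow. -/
def liftOf (K : CostructuredArrow (Over.map f).op (op W)) : Lifts f W :=
  ⟨K.hom.unop.left ≫ K.left.unop.hom, (Category.assoc _ _ _).trans (Over.w K.hom.unop)⟩

lemma liftOf_eq {K K' : CostructuredArrow (Over.map f).op (op W)} (m : K ⟶ K') :
    liftOf f W K = liftOf f W K' := by
  refine Subtype.ext ?_
  have h : ((Over.map f).map m.left.unop).left = m.left.unop.left := Over.map_map_left ..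
  have hw : K'.hom.unop ≫ (Over.map f).map m.left.unop = K.hom.unop :=
    congrArg Quiver.Hom.unop (CostructuredArrow.w m)
  show K.hom.unop.left ≫ K.left.unop.hom = K'.hom.unop.left ≫ K'.left.unop.hom
  rw [← hw, Over.comp_left, h, Category.assoc]
  exact congrArg (K'.hom.unop.left ≫ ·) (Over.w m.left.unop)

/-- The component functor. -/
def compF : CostructuredArrow (Over.map f).op (op W) ⥤ Discrete (Lifts f W) where
  obj K := ⟨liftOf f W K⟩
  map m := eqToHom (congrArg Discrete.mk (liftOf_eq f W m))

/-- The terminal object of a component. -/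
def liftObj (g : Lifts f W) : CostructuredArrow (Over.map f).op (op W) :=
  CostructuredArrow.mk (Y := op (Over.mk g.1))
    (show (Over.map f).op.obj (op (Over.mk g.1)) ⟶ op W from
      (Over.homMk (U := W) (V := (Over.map f).obj (Over.mk g.1)) (𝟙 W.left)
        ((Category.id_comp _).trans g.2)).op)

/-- The inclusion of the terminal objects of the components. -/
def liftF : Discrete (Lifts f W) ⥤ CostructuredArrow (Over.map f).op (op W) :=
  Discrete.functor (liftObj f W)

instance final_liftF : (liftF f W).Final :=
  Functor.final_of_adjunction (L := compF f W) (Adjunction.mkOfHomEquiv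
    { homEquiv := fun K g ↦
        { toFun := fun e ↦ CostructuredArrow.homMk
            (Over.homMk (U := Over.mk g.as.1) (V := K.left.unop) K.hom.unop.left
              (congrArg Subtype.val (Discrete.eq_of_hom e))).op
            (Quiver.Hom.unop_inj (Over.OverMorphism.ext (Category.id_comp _)))
          invFun := fun m ↦ eqToHom (by
            apply Discrete.ext
            refine (liftOf_eq f W m).trans (Subtype.ext ?_)
            exact Category.id_comp _)
          left_inv := fun e ↦ Subsingleton.elim _ _
          right_inv := fun m ↦ by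
            apply CostructuredArrow.hom_ext
            apply Quiver.Hom.unop_inj
            apply Over.OverMorphism.ext
            have h := congrArg (fun q ↦ q.unop.left) (CostructuredArrow.w m)
            exact h.symm.trans (Category.id_comp _) }
      homEquiv_naturality_left_symm := fun _ _ ↦ Subsingleton.elim _ _
      homEquiv_naturality_right := fun {K g g'} e e' ↦ by
        obtain rfl : g = g' := Discrete.ext (Discrete.eq_of_hom e')
        obtain rfl : e' = 𝟙 g := Subsingleton.elim _ _
        simp })

end OverMap

theorem preservesMono_lan_overMap {T S : Scheme.{u}} (f : T ⟶ S) :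
    ((Over.map f).op.lan :
      ((Over T)ᵒᵖ ⥤ AddCommGrpCat.{u + 1}) ⥤ (Over S)ᵒᵖ ⥤ AddCommGrpCat.{u + 1}).PreservesMonomorphisms := by
  refine ⟨fun {P P'} φ _ ↦ ?_⟩
  haveI : ∀ W, Mono (((Over.map f).op.lan.map φ).app W) := fun W ↦ by
    let ι := liftF f W.unop
    let p := CostructuredArrow.proj (Over.map f).op W
    haveI : HasExactColimitsOfShape (Discrete (ULift.{u + 1} (Lifts f W.unop))) AddCommGrpCat.{u + 1} :=
      AB4OfSize.ofShape _
    haveI : HasExactColimitsOfShape (Discrete (Lifts f W.unop)) AddCommGrpCat.{u + 1} :=
      HasExactColimitsOfShape.of_domain_equivalence _ (Discrete.equivalence Equiv.ulift)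
    haveI : PreservesFiniteLimits (colim (J := Discrete (Lifts f W.unop)) (C := AddCommGrpCat.{u + 1})) :=
      HasExactColimitsOfShape.preservesFiniteLimits
    let R := (Functor.whiskeringLeft _ _ AddCommGrpCat.{u + 1}).obj (ι ⋙ p) ⋙
      colim (J := Discrete (Lifts f W.unop))
    haveI : Mono (R.map φ) := R.map_mono φ
    let e : (Over.map f).op.lan ⋙ (evaluation _ AddCommGrpCat.{u + 1}).obj W ≅ R :=
      lanEvalIso _ _ ≪≫ Functor.isoWhiskerLeft _ (Functor.Final.colimIso ι).symm
    exact (MorphismProperty.arrow_mk_iso_iff (MorphismProperty.monomorphisms _)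
      (((Functor.mapArrowFunctor _ _).mapIso e).app (Arrow.mk φ))).2 (inferInstanceAs (Mono (R.map φ)))
  exact NatTrans.mono_of_mono_app _

theorem injective_restrict_overMap {T S : Scheme.{u}} (f : T ⟶ S)
    (I : Sheaf (Scheme.proetaleTopology.over S) AddCommGrpCat.{u + 1}) [Injective I] :
    Injective (((Over.map f).sheafPushforwardContinuous AddCommGrpCat.{u + 1}
      (Scheme.proetaleTopology.over T) (Scheme.proetaleTopology.over S)).obj I) := by
  let G := Over.map f
  let J := Scheme.proetaleTopology.over T
  let K := Scheme.proetaleTopology.over S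
  haveI := preservesMono_lan_overMap f
  haveI : (Functor.sheafPullbackConstruction.sheafPullback G AddCommGrpCat.{u + 1} J K).PreservesMonomorphisms := by
    haveI : (sheafToPresheaf J AddCommGrpCat.{u + 1}).PreservesMonomorphisms :=
      preservesMonomorphisms_of_preservesLimitsOfShape _
    haveI : (presheafToSheaf K AddCommGrpCat.{u + 1}).PreservesMonomorphisms :=
      preservesMonomorphisms_of_preservesLimitsOfShape _
    haveI : (G.op.lan ⋙ presheafToSheaf K AddCommGrpCat.{u + 1}).PreservesMonomorphisms :=
      Functor.preservesMonomorphisms_comp _ _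
    exact Functor.preservesMonomorphisms_comp (sheafToPresheaf J AddCommGrpCat.{u + 1}) _
  haveI : (G.sheafPullback AddCommGrpCat.{u + 1} J K).PreservesMonomorphisms :=
    Functor.preservesMonomorphisms.of_iso
      (Functor.sheafPullbackConstruction.sheafPullbackIso G AddCommGrpCat.{u + 1} J K).symm
  exact (G.sheafAdjunctionContinuous AddCommGrpCat.{u + 1} J K).map_injective I inferInstance

theorem injective_restrict {T S : Scheme.{u}} (f : T ⟶ S)
    [(Scheme.ProEt.forget T ⋙ Over.map f).IsContinuous (Scheme.ProEt.topology T)
      (Scheme.proetaleTopology.over S)]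
    (I : Sheaf (Scheme.proetaleTopology.over S) AddCommGrpCat.{u + 1}) [Injective I] :
    Injective (((Scheme.ProEt.forget T ⋙ Over.map f).sheafPushforwardContinuous AddCommGrpCat.{u + 1}
      (Scheme.ProEt.topology T) (Scheme.proetaleTopology.over S)).obj I) := by
  haveI := injective_restrict_overMap f I
  have h2 := injective_restrict_small T (((Over.map f).sheafPushforwardContinuous AddCommGrpCat.{u + 1}
    (Scheme.proetaleTopology.over T) (Scheme.proetaleTopology.over S)).obj I)
  exact Injective.of_iso ((Functor.sheafPushforwardContinuousComp (Scheme.ProEt.forget T) (Over.map f)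
    AddCommGrpCat.{u + 1} (Scheme.ProEt.topology T) (Scheme.proetaleTopology.over T)
    (Scheme.proetaleTopology.over S)).app I) h2

end Groth.Agent.ProEtBig
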